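/-
helper91: project F4OUT (S2128: the order of the outer automorphism group of the large Ree groups `²F₄(q)`),
shared concrete definitions: the subgroups `U¹`, `V¹`, `U_n^-`, the fundamental root subgroups and their elements
(`xa`, `ya` of the class `{p₁, p₄}`; `xb`, `yb` of the class of type `B₂`), the elements `n_J`, `n₀`, the torus elements.
-/
import Cfsg.Agent.Lib.Helper18.F4Q
import Cfsg.Agent.Lib.Helper91.TwOut.Defs

set_option autoImplicit false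
set_option linter.unusedSectionVars false

namespace Cfsg.Agent.Lib.Helper91.F4Out

open Cfsg Cfsg.Lie Cfsg.Agent.Lib.Helper18 Cfsg.Agent.Lib.Helper18.F4T Cfsg.Agent.Lib.Helper91.TwOut
open Cfsg.Agent.Lib.Helper91.ReeF4 Cfsg.Agent.Lib.Helper91.SigAbs Cfsg.Agent.Lib.Helper91.ExcAut
open Cfsg.Agent.Lib.Helper61.ReeF4

universe u

variable (K : Type u) [Field K] [CharP K 2] (m : ℕ)

/-- `²F₄` over `K` with `θ = (·)^(2^m)`. -/
abbrev GF4 : Subgroup (GL chevF4.Idx K) := twistedF4 K (2 ^ m)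

/-- `U¹`. -/
def UF4 : Subgroup ↥(GF4 K m) := (chevF4.posUnipotent K).subgroupOf (GF4 K m)

/-- `V¹`. -/
def VF4 : Subgroup ↥(GF4 K m) := (chevF4.negUnipotent K).subgroupOf (GF4 K m)

/-- `U_n^- ∩ G¹`. -/
def UmF4 (n : ↥(GF4 K m)) : Subgroup ↥(GF4 K m) :=
  (Subgroup.closure (UnegSet chevF4 K (n : GL chevF4.Idx K))).subgroupOf (GF4 K m)

theorem two_pow_ne_zero (m : ℕ) : (2 : ℕ) ^ m ≠ 0 := pow_ne_zero _ (by norm_num)

/-- The element `n_w` of a word `w` in the two classes (`0` = the class `{p₁, p₄}`, `1` = the class of type `B₂`). -/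
noncomputable def nF4 (cw : List ℕ) : ↥(GF4 K m) :=
  ⟨nW hD4 chevData_F4.{u} (wordJ cw), nW_wordJ_mem K (2 ^ m) (two_pow_ne_zero m) cw⟩

/-- The distinguished generators `n_{J₁} = n_{p₁} n_{p₄}` (`i = 0`) and `n_{J₂} = (n_{p₂} n_{p₃})²` (`i = 1`). -/
noncomputable def sF4 (i : Fin 2) : ↥(GF4 K m) := nF4 K m [i.val]

/-- The representative of the longest element. -/
noncomputable def n0F4 : ↥(GF4 K m) := nF4 K m f4Long

/-- The positive fundamental root subgroups. -/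
noncomputable def XF4 (i : Fin 2) : Subgroup ↥(GF4 K m) := UmF4 K m (sF4 K m i)

/-- The negative fundamental root subgroups. -/
noncomputable def YF4 (i : Fin 2) : Subgroup ↥(GF4 K m) :=
  (XF4 K m i).map (MulAut.conj (sF4 K m i)).toMonoidHom

/-- `x_{p₁}(t^θ) x_{p₄}(t)`. -/
noncomputable def xa (t : K) : ↥(GF4 K m) :=
  ⟨wordG hD4 (f4PairWord (2 ^ m) 33 24 t), gen_mem K (2 ^ m) _ (Or.inl ⟨t, Or.inl rfl⟩)⟩

/-- `x_{-p₁}(t^θ) x_{-p₄}(t)`. -/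
noncomputable def ya (t : K) : ↥(GF4 K m) :=
  ⟨wordG hD4 (f4PairWord (2 ^ m) 14 23 t), gen_mem K (2 ^ m) _ (Or.inl ⟨t, Or.inr rfl⟩)⟩

/-- `x_a(t^θ) x_b(t) x_{a+b}(t^{θ+1} + υ) x_{2a+b}(υ^{2θ})`, `a = p₂`, `b = p₃`. -/
noncomputable def xb (t υ : K) : ↥(GF4 K m) :=
  ⟨wordG hD4 (b2ClassWord (2 ^ m) 27 25 28 30 t υ), gen_mem K (2 ^ m) _ (Or.inr ⟨t, υ, Or.inl rfl⟩)⟩

/-- The same for `-a`, `-b`. -/
noncomputable def yb (t υ : K) : ↥(GF4 K m) :=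
  ⟨wordG hD4 (b2ClassWord (2 ^ m) 20 22 19 17 t υ), gen_mem K (2 ^ m) _ (Or.inr ⟨t, υ, Or.inr rfl⟩)⟩

theorem coe_xa (t : K) : ((xa K m t : ↥(GF4 K m)) : GL chevF4.Idx K) = pairW (2 ^ m) t := rfl

theorem coe_xb (t υ : K) : ((xb K m t υ : ↥(GF4 K m)) : GL chevF4.Idx K) = quadW (2 ^ m) t υ := rfl

theorem coe_ya (t : K) :
    ((ya K m t : ↥(GF4 K m)) : GL chevF4.Idx K) = xG hD4 14 (t ^ 2 ^ m) * xG hD4 23 t := by
  show wordG hD4 (f4PairWord (2 ^ m) 14 23 t) = _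
  unfold f4PairWord
  rw [wordG_cons, wordG_cons, wordG_nil, mul_one]

theorem coe_sF4 (i : Fin 2) :
    ((sF4 K m i : ↥(GF4 K m)) : GL chevF4.Idx K) = nW hD4 chevData_F4.{u} (wordJ [i.val]) := rfl

theorem coe_n0F4 : ((n0F4 K m : ↥(GF4 K m)) : GL chevF4.Idx K) = f4n0 K := rfl

theorem wordJ_zero : wordJ [0] = [0, 3] := by decide

theorem wordJ_one : wordJ [1] = [1, 2, 1, 2] := by decide

theorem mem_UF4 (g : ↥(GF4 K m)) : g ∈ UF4 K m ↔ (g : GL chevF4.Idx K) ∈ chevF4.posUnipotent K :=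
  Subgroup.mem_subgroupOf

theorem mem_VF4 (g : ↥(GF4 K m)) : g ∈ VF4 K m ↔ (g : GL chevF4.Idx K) ∈ chevF4.negUnipotent K :=
  Subgroup.mem_subgroupOf

theorem mem_UmF4 (n g : ↥(GF4 K m)) :
    g ∈ UmF4 K m n ↔ (g : GL chevF4.Idx K) ∈ Subgroup.closure (UnegSet chevF4 K (n : GL chevF4.Idx K)) :=
  Subgroup.mem_subgroupOf

theorem mem_XF4 (i : Fin 2) (g : ↥(GF4 K m)) :
    g ∈ XF4 K m i ↔
      (g : GL chevF4.Idx K) ∈ Subgroup.closure (UnegSet chevF4 K (nW hD4 chevData_F4.{u} (wordJ [i.val]))) :=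
  Subgroup.mem_subgroupOf

theorem mem_YF4 (i : Fin 2) (g : ↥(GF4 K m)) :
    g ∈ YF4 K m i ↔ (sF4 K m i)⁻¹ * g * sF4 K m i ∈ XF4 K m i := by
  unfold YF4
  rw [Subgroup.mem_map]
  constructor
  · rintro ⟨x, hx, rfl⟩
    have : (sF4 K m i)⁻¹ * (MulAut.conj (sF4 K m i)).toMonoidHom x * sF4 K m i = x := by
      show (sF4 K m i)⁻¹ * (sF4 K m i * x * (sF4 K m i)⁻¹) * sF4 K m i = x
      group
    rwa [this]
  · intro h
    refine ⟨_, h, ?_⟩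
    show sF4 K m i * ((sF4 K m i)⁻¹ * g * sF4 K m i) * (sF4 K m i)⁻¹ = g
    group

section Torus

variable [Fintype K] (hq : ∀ t : K, t ^ (2 * 2 ^ m * 2 ^ m) = t)

/-- The torus elements `h_{p₁}(d^θ) h_{p₂}(c^θ) h_{p₃}(c) h_{p₄}(d)` of `²F₄`. -/
noncomputable def hF4 (c d : Kˣ) : ↥(GF4 K m) := ⟨f4H (2 ^ m) c d, f4H_mem_twisted K m hq c d⟩

theorem coe_hF4 (c d : Kˣ) : ((hF4 K m hq c d : ↥(GF4 K m)) : GL chevF4.Idx K) = f4H (2 ^ m) c d := rfl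

end Torus

end Cfsg.Agent.Lib.Helper91.F4Out
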