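/-
helper91: project F4OUT (S2128), module [C-CU] (hedge): no element of `U¹` other than `1` commutes with the torus `H¹` of `²F₄(q)`, `q ≥ 8`.
-/
import Cfsg.Agent.Lib.Helper91.F4Out.F4Defs

set_option autoImplicit false
set_option linter.unusedSectionVars false

namespace Cfsg.Agent.Lib.Helper91.F4Out

open Cfsg Cfsg.Lie Cfsg.Agent.Lib.Helper18 Cfsg.Agent.Lib.Helper18.F4T Cfsg.Agent.Lib.Helper91.TwOut
open Cfsg.Agent.Lib.Helper91.ReeF4 Cfsg.Agent.Lib.Helper91.SigAbs Cfsg.Agent.Lib.Helper91.ExcAut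
open Cfsg.Agent.Lib.Helper61.ReeF4

universe u

theorem exp_good (a : ℕ) (ha : 2 ≤ a) (k0 k3 : ℤ) (h0 : -2 ≤ k0) (h0' : k0 ≤ 2) (h3 : -2 ≤ k3) (h3' : k3 ≤ 2)
    (hne : k0 ≠ 0 ∨ k3 ≠ 0) (hx : ¬ (k0 = 1 ∧ k3 = -2)) (hy : ¬ (k0 = -1 ∧ k3 = 2)) :
    (a : ℤ) * k0 + k3 ≠ 0 ∧ |(a : ℤ) * k0 + k3| < 2 * a * a - 1 := by
  have ha' : (2 : ℤ) ≤ a := by exact_mod_cast ha
  have hsq : (2 : ℤ) * a ≤ a * a := by nlinarith
  interval_cases k0 <;> interval_cases k3 <;>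
    first
    | (exfalso; omega)
    | (refine ⟨by omega, ?_⟩; rw [abs_lt]; constructor <;> nlinarith)

/-- The table of the Cartan integers of the positive roots: for every positive root one of the two exponent pairs is good. -/
def goodPair (k0 k3 : ℤ) : Bool :=
  decide (-2 ≤ k0) && decide (k0 ≤ 2) && decide (-2 ≤ k3) && decide (k3 ≤ 2) && (decide (k0 ≠ 0) || decide (k3 ≠ 0))
    && !(decide (k0 = 1) && decide (k3 = -2)) && !(decide (k0 = -1) && decide (k3 = 2))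

theorem cartan_table : ∀ r ∈ rootsL posBlks,
    goodPair (chevF4.cartan 0 r) (chevF4.cartan 3 r) = true ∨ goodPair (chevF4.cartan 1 r) (chevF4.cartan 2 r) = true := by
  decide

theorem goodPair_spec (k0 k3 : ℤ) (h : goodPair k0 k3 = true) :
    -2 ≤ k0 ∧ k0 ≤ 2 ∧ -2 ≤ k3 ∧ k3 ≤ 2 ∧ (k0 ≠ 0 ∨ k3 ≠ 0) ∧ ¬ (k0 = 1 ∧ k3 = -2) ∧ ¬ (k0 = -1 ∧ k3 = 2) := by
  unfold goodPair at h
  simp only [Bool.and_eq_true, Bool.or_eq_true, decide_eq_true_eq, Bool.not_eq_true', Bool.and_eq_false_iff,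
    decide_eq_false_iff_not] at h
  obtain ⟨⟨⟨⟨⟨⟨h1, h2⟩, h3⟩, h4⟩, h5⟩, h6⟩, h7⟩ := h
  refine ⟨h1, h2, h3, h4, h5, ?_, ?_⟩
  · rintro ⟨a, b⟩
    rcases h6 with h6 | h6
    · exact h6 a
    · exact h6 b
  · rintro ⟨a, b⟩
    rcases h7 with h7 | h7
    · exact h7 a
    · exact h7 b

variable (K : Type u) [Field K] [Fintype K] [CharP K 2] (m : ℕ) (hq : ∀ t : K, t ^ (2 * 2 ^ m * 2 ^ m) = t)

/-- A generator of `Kˣ` to a non-zero power of small absolute value is not one. -/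
theorem zpow_gen_ne_one (hK : Fintype.card K = 2 ^ (2 * m + 1)) (ζ : Kˣ) (hζ : ∀ x : Kˣ, x ∈ Subgroup.zpowers ζ)
    (e : ℤ) (he : e ≠ 0) (habs : |e| < 2 * (2 ^ m : ℕ) * (2 ^ m : ℕ) - 1) : ζ ^ e ≠ 1 := by
  intro h
  have hord : orderOf ζ = Fintype.card K - 1 := by
    rw [orderOf_eq_card_of_forall_mem_zpowers hζ, Nat.card_units, Nat.card_eq_fintype_card]
  have hdvd : (orderOf ζ : ℤ) ∣ e := orderOf_dvd_iff_zpow_eq_one.mpr h
  have hcard : ((Fintype.card K - 1 : ℕ) : ℤ) = 2 * (2 ^ m : ℕ) * (2 ^ m : ℕ) - 1 := by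
    have h1 : 1 ≤ Fintype.card K := Fintype.card_pos
    rw [Nat.cast_sub h1, hK]
    push_cast
    ring
  rw [hord, hcard] at hdvd
  exact he (Int.eq_zero_of_abs_lt_dvd hdvd habs)

/-- [C-CU] -/
theorem centralizer_torus_U (hm : 1 ≤ m) (hK : Fintype.card K = 2 ^ (2 * m + 1)) (g : ↥(GF4 K m))
    (hg : g ∈ UF4 K m) (hc : ∀ c d : Kˣ, hF4 K m hq c d * g * (hF4 K m hq c d)⁻¹ = g) : g = 1 := by
  obtain ⟨L⟩ := nonempty_levelData chevF4 hD4
  have hgU := (mem_UF4 K m g).mp hg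
  obtain ⟨t, ht⟩ := exists_prodL hD4 chevData_F4.{u} L (rootsL posBlks) posBlks_pos posBlks_nodup posBlks_all _ hgU
  obtain ⟨ζ, hζ⟩ := IsCyclic.exists_generator (α := Kˣ)
  have ha : 2 ≤ 2 ^ m := by
    calc 2 = 2 ^ 1 := by norm_num
      _ ≤ 2 ^ m := Nat.pow_le_pow_right (by norm_num) hm
  -- the invariance of the coefficients
  have hinv : ∀ c d : Kˣ, ∀ r ∈ rootsL posBlks,
      (((d ^ 2 ^ m : Kˣ) : K) ^ chevF4.cartan 0 r * ((c ^ 2 ^ m : Kˣ) : K) ^ chevF4.cartan 1 r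
        * (c : K) ^ chevF4.cartan 2 r * (d : K) ^ chevF4.cartan 3 r) * t r = t r := by
    intro c d
    have h1 := congrArg (fun x : ↥(GF4 K m) => (x : GL chevF4.Idx K)) (hc c d)
    simp only [Subgroup.coe_mul, Subgroup.coe_inv, coe_hF4] at h1
    rw [ht] at h1
    have h2 := conj_prodL_of hD4 (f4H (2 ^ m) c d)
      (fun r => ((d ^ 2 ^ m : Kˣ) : K) ^ chevF4.cartan 0 r * ((c ^ 2 ^ m : Kˣ) : K) ^ chevF4.cartan 1 r
        * (c : K) ^ chevF4.cartan 2 r * (d : K) ^ chevF4.cartan 3 r) (rootsL posBlks)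
      (fun r hr a => by
        have hr48 : r < 48 := (posBlks_pos r hr).1
        unfold f4H
        exact tor4_conj_xG _ _ _ _ r hr48 a) t
    rw [h2] at h1
    exact prodL_injective_of_fintype hD4 _ posBlks_pos posBlks_nodup posBlks_all _ _ h1
  have key : ∀ r ∈ rootsL posBlks, t r = 0 := by
    intro r hr
    rcases cartan_table r hr with hgood | hgood
    · obtain ⟨b1, b2, b3, b4, b5, b6, b7⟩ := goodPair_spec _ _ hgood
      obtain ⟨e1, e2⟩ := exp_good (2 ^ m) ha _ _ b1 b2 b3 b4 b5 b6 b7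
      have hne := zpow_gen_ne_one K m hK ζ hζ _ e1 e2
      have h := hinv 1 ζ r hr
      have hχ : (((ζ ^ 2 ^ m : Kˣ) : K) ^ chevF4.cartan 0 r * (((1 : Kˣ) ^ 2 ^ m : Kˣ) : K) ^ chevF4.cartan 1 r
          * ((1 : Kˣ) : K) ^ chevF4.cartan 2 r * (ζ : K) ^ chevF4.cartan 3 r)
          = ((ζ ^ (((2 ^ m : ℕ) : ℤ) * chevF4.cartan 0 r + chevF4.cartan 3 r) : Kˣ) : K) := by
        rw [one_pow, Units.val_one, one_zpow, one_zpow, mul_one, mul_one, zpow_add, zpow_mul, Units.val_mul,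
          Units.val_zpow_eq_zpow_val, Units.val_zpow_eq_zpow_val, zpow_natCast, Units.val_pow_eq_pow_val]
        simp only [Units.val_zpow_eq_zpow_val]
      rw [hχ] at h
      by_contra h0
      have h1 : ((ζ ^ (((2 ^ m : ℕ) : ℤ) * chevF4.cartan 0 r + chevF4.cartan 3 r) : Kˣ) : K) = 1 :=
        mul_right_cancel₀ h0 (h.trans (one_mul _).symm)
      exact hne (Units.ext h1)
    · obtain ⟨b1, b2, b3, b4, b5, b6, b7⟩ := goodPair_spec _ _ hgood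
      obtain ⟨e1, e2⟩ := exp_good (2 ^ m) ha _ _ b1 b2 b3 b4 b5 b6 b7
      have hne := zpow_gen_ne_one K m hK ζ hζ _ e1 e2
      have h := hinv ζ 1 r hr
      have hχ : ((((1 : Kˣ) ^ 2 ^ m : Kˣ) : K) ^ chevF4.cartan 0 r * ((ζ ^ 2 ^ m : Kˣ) : K) ^ chevF4.cartan 1 r
          * (ζ : K) ^ chevF4.cartan 2 r * ((1 : Kˣ) : K) ^ chevF4.cartan 3 r)
          = ((ζ ^ (((2 ^ m : ℕ) : ℤ) * chevF4.cartan 1 r + chevF4.cartan 2 r) : Kˣ) : K) := by
        rw [one_pow, Units.val_one, one_zpow, one_zpow, mul_one, one_mul, zpow_add, zpow_mul, Units.val_mul,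
          Units.val_zpow_eq_zpow_val, Units.val_zpow_eq_zpow_val, zpow_natCast, Units.val_pow_eq_pow_val]
        simp only [Units.val_zpow_eq_zpow_val]
      rw [hχ] at h
      by_contra h0
      have h1 : ((ζ ^ (((2 ^ m : ℕ) : ℤ) * chevF4.cartan 1 r + chevF4.cartan 2 r) : Kˣ) : K) = 1 :=
        mul_right_cancel₀ h0 (h.trans (one_mul _).symm)
      exact hne (Units.ext h1)
  apply Subtype.ext
  show (g : GL chevF4.Idx K) = 1
  rw [ht, ← prodL_zero hD4 (rootsL posBlks)]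
  exact prodL_congr hD4 _ _ _ (fun r hr => key r hr)

end Cfsg.Agent.Lib.Helper91.F4Out
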