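/-
helper91: project F4OUT (S2128), module [S-MAIN]: the order of the outer automorphism group of a group with a split
(B,N)-pair of rank 2 with one node of type `SL₂(K)` and one node of Suzuki type: `|Out Γ| = |Aut K|`.
-/
import Cfsg.Agent.Lib.Helper86.F4OutCountGen
import Cfsg.Agent.Lib.Helper89.F4OutKer

set_option autoImplicit false
set_option linter.unusedSectionVars false

namespace Cfsg.Agent.Lib.Helper91.F4Out

open Cfsg Cfsg.Agent.Lib.Helper91.TwOut Cfsg.Agent.Lib.Helper69.TwOut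

variable {Γ : Type*} [Group Γ] {ι : Type*} {p : ℕ}

section Count

variable {K : Type*} [Field K] [Fintype K]

/-- [S-MAIN] -/
theorem card_out_rank2_sz [CharP K 2] [Finite Γ] [Fact p.Prime] (S : SplitBN Γ (Fin 2) p) (he : S.e 0 ≠ S.e 1)
    (Φa : Matrix.SpecialLinearGroup (Fin 2) K →* Γ)
    (hXa : ∀ g, g ∈ S.X 0 ↔ ∃ t, g = Φa (sx t)) (hYa : ∀ g, g ∈ S.Y 0 ↔ ∃ t, g = Φa (sy t))
    (hinja : Function.Injective fun t : K => Φa (sx t)) (hinjya : Function.Injective fun t : K => Φa (sy t))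
    (σ : K ≃+* K) (hσ : ∃ t, σ t ≠ t) (hbij : Function.Bijective fun t : K => t * σ t)
    (xb : K → K → Γ) (hXb : ∀ g, g ∈ S.X 1 ↔ ∃ t u, g = xb t u)
    (hinjb : ∀ t u t' u', xb t u = xb t' u' → t = t' ∧ u = u')
    (hmul : ∀ t u t' u', xb t u * xb t' u' = xb (t + t') (u + u' + σ t * t'))
    (hact : ∀ (l : Kˣ) (t u : K), Φa (hd l) * xb t u * (Φa (hd l))⁻¹ = xb ((l : K)⁻¹ * t) (((l : K) * σ l)⁻¹ * u))
    (hgen : Subgroup.closure (Set.range (fun t : K => Φa (sx t)) ∪ Set.range (fun t : K => Φa (sy t)) ∪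
      (S.X 1 : Set Γ) ∪ (S.Y 1 : Set Γ)) = ⊤)
    (hcore : S.P.B.normalCore = ⊥)
    (hCU : ∀ u ∈ S.U, (∀ h ∈ S.P.B ⊓ S.P.N, h * u * h⁻¹ = u) → u = 1)
    (x₀ y₀ y₀' : Γ) (hx₀ : x₀ ∈ S.X 1) (hx1 : x₀ ≠ 1) (hy₀ : y₀ ∈ S.Y 1) (hy₀' : y₀' ∈ S.Y 1)
    (hn : y₀ * x₀ * y₀' ∈ S.P.N)
    (hH : Nat.card ↥(S.P.B ⊓ S.P.N) = (Fintype.card K - 1) * (Fintype.card K - 1))
    (htorus : ∀ h ∈ S.P.B ⊓ S.P.N, ∃ c : K, ∀ t, h * Φa (sx t) * h⁻¹ = Φa (sx (c * t)))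
    (hfield : ∀ τ : K ≃+* K, ∃ θ : Γ ≃* Γ, S.U.map θ.toMonoidHom = S.U ∧ S.V.map θ.toMonoidHom = S.V ∧
      ∀ t, θ (Φa (sx t)) = Φa (sx (τ t))) :
    Nat.card (Out Γ) = Nat.card (K ≃+* K) := by
  have hUV := U_inf_V S
  -- `x(t) ≠ y(u)` for `t ≠ 0`
  have hxya : ∀ t u : K, t ≠ 0 → Φa (sx t) ≠ Φa (sy u) := by
    intro t u ht h
    have h1 : Φa (sx t) ∈ S.U ⊓ S.V :=
      ⟨X_le_U S 0 ((hXa _).mpr ⟨t, rfl⟩), by rw [h]; exact Y_le_V S 0 ((hYa _).mpr ⟨u, rfl⟩)⟩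
    rw [hUV, Subgroup.mem_bot] at h1
    have h0 : Φa (sx (0 : K)) = 1 := by
      have e : (sx (0 : K)) = 1 := by
        ext i j
        fin_cases i <;> fin_cases j <;> simp [coe_sx]
      rw [e, map_one]
    exact ht (hinja (h1.trans h0.symm))
  have hnf : ∀ θ ∈ Nrm S.U S.V, ∃ (c : Kˣ) (τ : K ≃+* K), ∀ t, θ (Φa (sx t)) = Φa (sx ((c : K) * τ t)) := by
    intro θ hθ
    obtain ⟨hX0, hY0⟩ := map_root_eq S he θ hθ.1 hθ.2 0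
    have hXa' : ∀ t, ∃ t', θ (Φa (sx t)) = Φa (sx t') := by
      intro t
      have : θ (Φa (sx t)) ∈ (S.X 0).map θ.toMonoidHom := ⟨_, (hXa _).mpr ⟨t, rfl⟩, rfl⟩
      rw [hX0] at this
      exact (hXa _).mp this
    have hYa' : ∀ t, ∃ t', θ (Φa (sy t)) = Φa (sy t') := by
      intro t
      have : θ (Φa (sy t)) ∈ (S.Y 0).map θ.toMonoidHom := ⟨_, (hYa _).mpr ⟨t, rfl⟩, rfl⟩
      rw [hY0] at this
      exact (hYa _).mp this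
    obtain ⟨ca, τ, a1, -, -⟩ := Cfsg.Agent.Lib.Helper23.TwOut.pair_nf Φa hinja hinjya hxya θ hXa' hYa'
    exact ⟨ca, τ, a1⟩
  exact Cfsg.Agent.Lib.Helper86.F4Out.card_out_of_ker_le S Φa hinja hnf hcore _ hH htorus hfield
    (fun T hT hTs => Cfsg.Agent.Lib.Helper89.F4Out.card_le_sz S he Φa hXa hYa hinja hinjya σ hσ hbij xb hXb hinjb hmul hact hgen hcore hCU
      x₀ y₀ y₀' hx₀ hx1 hy₀ hy₀' hn T hT hTs)

end Count

end Cfsg.Agent.Lib.Helper91.F4Out
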