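/-
helper91: project F4OUT (S2128), module [C-REL]: the relation `yb(1,1) xb(1,0) yb(0,1) = n_{J₂}` in `²F₄`
(an element `y x y'` of `N¹` with `x` in the fundamental root subgroup of Suzuki type).
-/
import Cfsg.Agent.Lib.Helper91.F4Out.F4Defs

set_option autoImplicit false
set_option linter.unusedSectionVars false

namespace Cfsg.Agent.Lib.Helper91.F4Out

open Cfsg Cfsg.Lie Cfsg.Agent.Lib.Helper18 Cfsg.Agent.Lib.Helper18.F4T Cfsg.Agent.Lib.Helper91.TwOut
open Cfsg.Agent.Lib.Helper91.ReeF4 Cfsg.Agent.Lib.Helper91.SigAbs Cfsg.Agent.Lib.Helper91.ExcAut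
open Cfsg.Agent.Lib.Helper61.ReeF4

universe u

/-- The zero coefficient. -/
def cw0 (r : ℕ) : ℕ × Poly := (r, [])

set_option maxRecDepth 100000 in
theorem rel_chk : wordEqChk chevF4 2
    [cw1 20, cw1 22, cw0 19, cw1 17, cw1 27, cw1 25, cw1 28, cw0 30, cw0 20, cw0 22, cw1 19, cw1 17]
    [cw1 27, cw1 20, cw1 27, cw1 25, cw1 22, cw1 25, cw1 27, cw1 20, cw1 27, cw1 25, cw1 22, cw1 25] = true := by
  decide +kernel

variable (K : Type u) [Field K] [CharP K 2] (m : ℕ)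

/-- `(n_{p₂} n_{p₃})² = yb(1,1) xb(1,0) yb(0,1)`. -/
theorem nW_J2_eq' : nW (F := K) hD4 chevData_F4.{u} [1, 2, 1, 2]
    = wordG hD4 [(20, (1 : K)), (22, 1), (19, 0), (17, 1)] * wordG hD4 [(27, (1 : K)), (25, 1), (28, 1), (30, 0)]
      * wordG hD4 [(20, (0 : K)), (22, 0), (19, 1), (17, 1)] := by
  apply Units.ext
  rw [nW_cons, nW_cons, nW_cons, nW_cons, nW_nil, mul_one, Units.val_mul, Units.val_mul, Units.val_mul,
    Units.val_mul, Units.val_mul, coe_sG_F4 1 (by norm_num),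
    coe_sG_F4 2 (by norm_num), coe_wordG, coe_wordG, coe_wordG, ← wordMat_append', ← wordMat_append', ← wordMat_append',
    ← wordMat_append', ← wordMat_append']
  have h := one_wordMat_eq (K := K) _ _ rel_chk
  simp only [evWord, cw1, cw0, List.map_cons, List.map_nil, evPoly_onePoly] at h
  have e0 : evPoly (fun _ => (1 : K)) [] = 0 := rfl
  rw [e0] at h
  exact h.symm

/-- [C-REL] -/
theorem rel_yxy : yb K m 1 1 * xb K m 1 0 * yb K m 0 1 = sF4 K m 1 := by
  apply Subtype.ext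
  have he : (2 : ℕ) ^ m ≠ 0 := two_pow_ne_zero m
  show wordG hD4 (b2ClassWord (2 ^ m) 20 22 19 17 (1 : K) 1) * wordG hD4 (b2ClassWord (2 ^ m) 27 25 28 30 (1 : K) 0)
    * wordG hD4 (b2ClassWord (2 ^ m) 20 22 19 17 (0 : K) 1) = nW hD4 chevData_F4.{u} (wordJ [1])
  rw [wordJ_one, nW_J2_eq' K]
  unfold b2ClassWord
  have h2 : (2 * 2 ^ m) ≠ 0 := by omega
  simp only [one_pow, zero_pow he, zero_pow h2, zero_pow (Nat.succ_ne_zero _), CharTwo.add_self_eq_zero, add_zero, zero_add]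

end Cfsg.Agent.Lib.Helper91.F4Out
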