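/-
helper91: project F4OUT (S2128), module [C-SPLIT]: `²F₄(q)` as an instance of `SplitBN` (port of helper69's `splitTw`).
-/
import Cfsg.Agent.Lib.Helper91.F4Out.F4Defs
import Cfsg.Agent.Lib.Helper91.TwOut.Inst1

set_option autoImplicit false
set_option linter.unusedSectionVars false

namespace Cfsg.Agent.Lib.Helper91.F4Out

open Cfsg Cfsg.Lie Cfsg.Agent.Lib.Helper18 Cfsg.Agent.Lib.Helper18.F4T Cfsg.Agent.Lib.Helper91.TwOut
open Cfsg.Agent.Lib.Helper91.ReeF4 Cfsg.Agent.Lib.Helper91.SigAbs Cfsg.Agent.Lib.Helper91.ExcAut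
open Cfsg.Agent.Lib.Helper61.ReeF4

universe u

variable (K : Type u) [Field K] [Fintype K] [CharP K 2] (m : ℕ) (hq : ∀ t : K, t ^ (2 * 2 ^ m * 2 ^ m) = t)

/-- The longest element sends `U` into `V`. -/
theorem f4n0_conj_U (x : GL chevF4.Idx K) (hx : x ∈ chevF4.posUnipotent K) :
    f4n0 K * x * (f4n0 K)⁻¹ ∈ chevF4.negUnipotent K := by
  revert x
  unfold ChevalleyDatum.posUnipotent
  apply conj_closure_le
  rintro x ⟨r, t, hr, hx⟩
  have : x = xG hD4 r t := eq_xG hD4 _ r t hx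
  unfold f4n0
  rw [this, nW_conj_xG hD4 chevData_F4.{u} _ (wordJ_lt _) r hr.1, f4tabs_eq, f4Long_neg r hr.1]
  have hpos := (isPosRoot_iff hD4 r).mp hr
  have hnr : chevF4.nroots = 48 := rfl
  apply xG_mem_negUnipotent' hD4
  have h1 := hr.1
  have h2 := hpos.2
  exact ⟨by omega, by omega⟩

/-- The longest element exchanges `U` and `V`. -/
theorem f4_long_conj :
    (∀ g : GL chevF4.Idx K, g ∈ chevF4.negUnipotent K ↔ (f4n0 K)⁻¹ * g * f4n0 K ∈ chevF4.posUnipotent K) ∧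
    (∀ g : GL chevF4.Idx K, g ∈ chevF4.posUnipotent K ↔ (f4n0 K)⁻¹ * g * f4n0 K ∈ chevF4.negUnipotent K) := by
  set n₀ := f4n0 K with hn₀def
  have hUV : ∀ u ∈ chevF4.posUnipotent K, n₀ * u * n₀⁻¹ ∈ chevF4.negUnipotent K := f4n0_conj_U K
  have hVU : ∀ v ∈ chevF4.negUnipotent K, n₀ * v * n₀⁻¹ ∈ chevF4.posUnipotent K := f4n0_conj_V K
  have hfin : Finite (GL chevF4.Idx K) := inferInstance
  have hA : (chevF4.posUnipotent K).map (MulAut.conj n₀).toMonoidHom ≤ chevF4.negUnipotent K := by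
    rintro x ⟨u, hu, rfl⟩
    exact hUV u hu
  have hB : (chevF4.negUnipotent K).map (MulAut.conj n₀).toMonoidHom ≤ chevF4.posUnipotent K := by
    rintro x ⟨v, hv, rfl⟩
    exact hVU v hv
  have cA : Nat.card ↥((chevF4.posUnipotent K).map (MulAut.conj n₀).toMonoidHom)
      = Nat.card ↥(chevF4.posUnipotent K) :=
    Subgroup.card_map_of_injective (MulAut.conj n₀).injective
  have cB : Nat.card ↥((chevF4.negUnipotent K).map (MulAut.conj n₀).toMonoidHom)
      = Nat.card ↥(chevF4.negUnipotent K) :=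
    Subgroup.card_map_of_injective (MulAut.conj n₀).injective
  have c1 := Subgroup.card_le_of_le hA
  have c2 := Subgroup.card_le_of_le hB
  rw [cA] at c1
  rw [cB] at c2
  have eA : (chevF4.posUnipotent K).map (MulAut.conj n₀).toMonoidHom = chevF4.negUnipotent K :=
    Subgroup.eq_of_le_of_card_ge hA (by rw [cA]; exact c2)
  have eB : (chevF4.negUnipotent K).map (MulAut.conj n₀).toMonoidHom = chevF4.posUnipotent K :=
    Subgroup.eq_of_le_of_card_ge hB (by rw [cB]; exact c1)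
  constructor
  · intro g
    constructor
    · intro hg
      rw [← eA] at hg
      obtain ⟨u, hu, rfl⟩ := hg
      have : n₀⁻¹ * (MulAut.conj n₀).toMonoidHom u * n₀ = u := by
        show n₀⁻¹ * (n₀ * u * n₀⁻¹) * n₀ = u
        group
      rw [this]
      exact hu
    · intro hg
      have := hUV _ hg
      have e : n₀ * (n₀⁻¹ * g * n₀) * n₀⁻¹ = g := by group
      rwa [e] at this
  · intro g
    constructor
    · intro hg
      rw [← eB] at hg
      obtain ⟨v, hv, rfl⟩ := hg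
      have : n₀⁻¹ * (MulAut.conj n₀).toMonoidHom v * n₀ = v := by
        show n₀⁻¹ * (n₀ * v * n₀⁻¹) * n₀ = v
        group
      rw [this]
      exact hv
    · intro hg
      have := hVU _ hg
      have e : n₀ * (n₀⁻¹ * g * n₀) * n₀⁻¹ = g := by group
      rwa [e] at this

include hq in
/-- `B ∩ G¹ = (U ∩ G¹)(H ∩ G¹)`. -/
theorem f4_borel_decomp (b : GL chevF4.Idx K) (hb : b ∈ chevF4.borelSubgroup K) (hbG : b ∈ GF4 K m) :
    ∃ u ∈ chevF4.posUnipotent K ⊓ GF4 K m, ∃ h ∈ chevF4.diagonalSubgroup K ⊓ GF4 K m, b = u * h := by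
  obtain ⟨u₀, hu₀, n, hn, u, hu, hug, e⟩ := exists_form K m hq b hbG
  have huU : u ∈ chevF4.posUnipotent K := closure_UnegSet_le chevF4 n hu
  have hnB : n ∈ chevF4.borelSubgroup K := by
    have : n = u₀⁻¹ * b * u⁻¹ := by rw [e]; group
    rw [this]
    exact mul_mem (mul_mem (inv_mem (borel_of_posUnipotent _ hu₀.1)) hb) (inv_mem (borel_of_posUnipotent _ huU))
  have hnH : n ∈ chevF4.diagonalSubgroup K := by
    rw [← (Cfsg.Agent.S1040.result chevF4 hD4).2]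
    exact Subgroup.mem_inf.mpr ⟨hnB, hn.1⟩
  have h1 : n * u * n⁻¹ ∈ chevF4.posUnipotent K := borel_conj_mem hD4 n u hnB huU
  refine ⟨u₀ * (n * u * n⁻¹), Subgroup.mem_inf.mpr ⟨mul_mem hu₀.1 h1, ?_⟩, n, Subgroup.mem_inf.mpr ⟨hnH, hn.2⟩, ?_⟩
  · exact mul_mem hu₀.2 (mul_mem (mul_mem hn.2 hug) (inv_mem hn.2))
  · rw [e]; group

section Split

variable (P : Cfsg.BNPair ↥(GF4 K m))
  (hPB : P.B = (chevF4.borelSubgroup K ⊓ GF4 K m).subgroupOf (GF4 K m))
  (hPN : P.N = (chevF4.monomialSubgroup K ⊓ GF4 K m).subgroupOf (GF4 K m))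
  (hPS : P.S = {s : ↥(GF4 K m) | ∃ J ∈ f4Js, (s : GL chevF4.Idx K) = nW hD4 chevData_F4.{u} J})

include hPB in
theorem mem_PB (x : ↥(GF4 K m)) : x ∈ P.B ↔ (x : GL chevF4.Idx K) ∈ chevF4.borelSubgroup K := by
  rw [hPB, Subgroup.mem_subgroupOf, Subgroup.mem_inf]
  exact ⟨fun h => h.1, fun h => ⟨h, x.2⟩⟩

include hPN in
theorem mem_PN (x : ↥(GF4 K m)) : x ∈ P.N ↔ (x : GL chevF4.Idx K) ∈ chevF4.monomialSubgroup K := by
  rw [hPN, Subgroup.mem_subgroupOf, Subgroup.mem_inf]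
  exact ⟨fun h => h.1, fun h => ⟨h, x.2⟩⟩

include hPB hPN in
theorem mem_PH (x : ↥(GF4 K m)) : x ∈ P.B ⊓ P.N ↔ (x : GL chevF4.Idx K) ∈ chevF4.diagonalSubgroup K := by
  rw [Subgroup.mem_inf, mem_PB K m P hPB, mem_PN K m P hPN, ← (Cfsg.Agent.S1040.result chevF4 hD4).2,
    Subgroup.mem_inf]

variable (hsyl : IsPGroup 2 ↥(UF4 K m) ∧ ¬ 2 ∣ (UF4 K m).index)
  (e : Fin 2 → ℕ) (he : ∀ i, 0 < e i)
  (hXeq : ∀ i g, g ∈ XF4 K m i ↔ (n0F4 K m)⁻¹ * g * n0F4 K m ∈ YF4 K m i)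
  (hcard : ∀ i, Nat.card ↥(XF4 K m i) = 2 ^ e i)

include hq hPB hPN hPS hsyl he hXeq hcard in
/-- [C-SPLIT] `²F₄` as a split (B,N)-pair with root subgroups. -/
noncomputable def splitF4 : SplitBN ↥(GF4 K m) (Fin 2) 2 where
  P := P
  U := UF4 K m
  V := VF4 K m
  Um := UmF4 K m
  s := sF4 K m
  X := XF4 K m
  Y := YF4 K m
  e := e
  n₀ := n0F4 K m
  op := 1
  S_eq := by
    rw [hPS]
    ext x
    simp only [Set.mem_ofPred_eq, Set.mem_range]
    constructor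
    · rintro ⟨J, hJ, hx⟩
      unfold f4Js at hJ
      simp only [List.mem_cons, List.not_mem_nil, or_false] at hJ
      rcases hJ with rfl | rfl
      · refine ⟨0, Subtype.ext ?_⟩
        rw [hx, coe_sF4]
        show nW hD4 chevData_F4.{u} (wordJ [0]) = _
        rw [wordJ_zero]
      · refine ⟨1, Subtype.ext ?_⟩
        rw [hx, coe_sF4]
        show nW hD4 chevData_F4.{u} (wordJ [1]) = _
        rw [wordJ_one]
    · rintro ⟨i, rfl⟩
      fin_cases i
      · refine ⟨[0, 3], by simp [f4Js], ?_⟩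
        rw [coe_sF4]
        show nW hD4 chevData_F4.{u} (wordJ [0]) = _
        rw [wordJ_zero]
      · refine ⟨[1, 2, 1, 2], by simp [f4Js], ?_⟩
        rw [coe_sF4]
        show nW hD4 chevData_F4.{u} (wordJ [1]) = _
        rw [wordJ_one]
  pU := hsyl.1
  idxU := hsyl.2
  U_le := by
    intro x hx
    rw [mem_PB K m P hPB]
    exact borel_of_posUnipotent _ ((mem_UF4 K m x).mp hx)
  U_norm := by
    intro b hb x hx
    rw [mem_UF4]
    rw [mem_PB K m P hPB] at hb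
    have := borel_conj_mem hD4 _ _ hb ((mem_UF4 K m x).mp hx)
    simpa using this
  B_eq := by
    intro b hb
    rw [mem_PB K m P hPB] at hb
    obtain ⟨x, hx, h, hh, e⟩ := f4_borel_decomp K m hq _ hb b.2
    refine ⟨⟨x, hx.2⟩, (mem_UF4 K m _).mpr hx.1, ⟨h, hh.2⟩,
      (mem_PH K m P hPB hPN _).mpr hh.1, Subtype.ext e⟩
  V_inf_B := by
    rw [eq_bot_iff]
    intro x hx
    rw [Subgroup.mem_bot]
    apply Subtype.ext
    have h1 : (x : GL chevF4.Idx K) ∈ chevF4.borelSubgroup K ⊓ chevF4.negUnipotent K :=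
      Subgroup.mem_inf.mpr ⟨(mem_PB K m P hPB x).mp hx.2, (mem_VF4 K m x).mp hx.1⟩
    rw [(Cfsg.Agent.S1037.result chevF4 hD4).1, Subgroup.mem_bot] at h1
    exact h1
  n₀_mem := by
    rw [mem_PN K m P hPN, coe_n0F4]
    exact nW_mem_monomial hD4 chevData_F4.{u} _
  V_eq := by
    intro g
    rw [mem_VF4, mem_UF4]
    have := (f4_long_conj K).1 (g : GL chevF4.Idx K)
    rw [this, Subgroup.coe_mul, Subgroup.coe_mul, Subgroup.coe_inv, coe_n0F4]
  U_eq := by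
    intro g
    rw [mem_VF4, mem_UF4]
    have := (f4_long_conj K).2 (g : GL chevF4.Idx K)
    rw [this, Subgroup.coe_mul, Subgroup.coe_mul, Subgroup.coe_inv, coe_n0F4]
  Um_le := by
    intro n x hx
    rw [mem_UF4]
    exact closure_UnegSet_le chevF4 _ ((mem_UmF4 K m n x).mp hx)
  Um_conj := by
    intro n x hx
    rw [mem_VF4]
    have := conj_mem_neg_of_mem_closure hD4 _ _ ((mem_UmF4 K m n x).mp hx)
    simpa using this
  Um_diag := by
    intro n h hh
    rw [mem_PH K m P hPB hPN] at hh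
    ext x
    rw [mem_UmF4, mem_UmF4, Subgroup.coe_mul, closure_UnegSet_mul_diag hD4 _ _ hh]
  form := by
    intro g
    obtain ⟨u₀, hu₀, n, hn, x, hx, hxG, e⟩ := exists_form K m hq _ g.2
    refine ⟨⟨u₀, hu₀.2⟩, (mem_UF4 K m _).mpr hu₀.1, ⟨n, hn.2⟩, (mem_PN K m P hPN _).mpr hn.1,
      ⟨x, hxG⟩, (mem_UmF4 K m _ _).mpr hx, Subtype.ext e⟩
  Um_s := fun i => rfl
  Y_eq := fun i g => mem_YF4 K m i g
  X_eq := hXeq
  card_X := hcard
  e_pos := he

end Split

end Cfsg.Agent.Lib.Helper91.F4Out
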